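import Mathlib

/-!
The power graph of a finite group determines which products of two primes are element orders.
-/

set_option autoImplicit false

namespace Cfsg.Agent.Lib.PowerGraph

open Subgroup

variable {G : Type*} [Group G]

/-- One of two elements is a power of the other. -/
def Adj (x y : G) : Prop := x ∈ zpowers y ∨ y ∈ zpowers x

/-- The closed neighbourhood. -/
def nbhd (x : G) : Set G := {y | Adj x y}

/-- The vertices adjacent to every vertex of a set. -/
def dominators (S : Set G) : Set G := {y | y ∈ S ∧ ∀ z ∈ S, Adj y z}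

/-- The vertices of `S` with the same neighbours in `S` as `v`. -/
def twins (S : Set G) (v : G) : Set G := {y | y ∈ S ∧ ∀ z ∈ S, (Adj y z ↔ Adj v z)}

/-- The graph theoretic trace of an element of order divisible by `p * q` which generates a
maximal cyclic subgroup. -/
def IsPQVertex (p q : ℕ) (g : G) : Prop :=
  p * q ∣ Nat.card (nbhd g) ∧
  (∀ A : Set G, A ⊆ nbhd g \ dominators (nbhd g) → A.Nonempty →
    (∀ a ∈ A, ∀ z ∈ nbhd g \ dominators (nbhd g), ¬ Adj a z → z ∈ A) →
    nbhd g \ dominators (nbhd g) ⊆ A) ∧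
  Nat.card (dominators (nbhd g)) ≤ Nat.totient (Nat.card (nbhd g)) + 1 ∧
  Nat.totient (Nat.card (nbhd g)) ≤ Nat.card {y : G | nbhd y = nbhd g} ∧
  ∀ l : ℕ, (l = p ∨ l = q) → ∃ v ∈ nbhd g, v ∉ dominators (nbhd g) ∧
    Nat.card (twins (nbhd g) v) = l - 1

theorem adj_comm {x y : G} : Adj x y ↔ Adj y x := Or.comm

theorem adj_self (x : G) : Adj x x := Or.inl (mem_zpowers x)

theorem adj_one (x : G) : Adj 1 x := Or.inl (one_mem _)

section Iso

variable {H : Type*} [Group H] (e : G ≃ H)

theorem image_nbhd (he : ∀ x y : G, Adj x y ↔ Adj (e x) (e y)) (x : G) :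
    e '' nbhd x = nbhd (e x) := by
  ext z
  constructor
  · rintro ⟨y, hy, rfl⟩
    exact (he x y).mp hy
  · intro hz
    exact ⟨e.symm z, (he x _).mpr (by rwa [e.apply_symm_apply]), e.apply_symm_apply z⟩

theorem image_dominators (he : ∀ x y : G, Adj x y ↔ Adj (e x) (e y)) (S : Set G) :
    e '' dominators S = dominators (e '' S) := by
  ext z
  constructor
  · rintro ⟨y, hy, rfl⟩
    exact ⟨⟨y, hy.1, rfl⟩, by rintro _ ⟨w, hw, rfl⟩; exact (he y w).mp (hy.2 w hw)⟩
  · rintro ⟨⟨y, hy, rfl⟩, h⟩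
    exact ⟨y, ⟨hy, fun w hw => (he y w).mpr (h _ ⟨w, hw, rfl⟩)⟩, rfl⟩

theorem image_twins (he : ∀ x y : G, Adj x y ↔ Adj (e x) (e y)) (S : Set G) (v : G) :
    e '' twins S v = twins (e '' S) (e v) := by
  ext z
  constructor
  · rintro ⟨y, hy, rfl⟩
    exact ⟨⟨y, hy.1, rfl⟩, by
      rintro _ ⟨w, hw, rfl⟩
      rw [← he, ← he]; exact hy.2 w hw⟩
  · rintro ⟨⟨y, hy, rfl⟩, h⟩
    exact ⟨y, ⟨hy, fun w hw => by rw [he, he]; exact h _ ⟨w, hw, rfl⟩⟩, rfl⟩

theorem isPQVertex_map (he : ∀ x y : G, Adj x y ↔ Adj (e x) (e y)) {p q : ℕ} {g : G}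
    (hg : IsPQVertex p q g) : IsPQVertex p q (e g) := by
  obtain ⟨h1, h2, h3, h4, h5⟩ := hg
  have hN := image_nbhd e he g
  have hD : e '' dominators (nbhd g) = dominators (nbhd (e g)) := by
    rw [image_dominators e he, hN]
  have hcard : Nat.card (nbhd (e g)) = Nat.card (nbhd g) := by
    rw [← hN, Nat.card_image_of_injective e.injective]
  refine ⟨hcard ▸ h1, ?_, ?_, ?_, ?_⟩
  · intro A hA hne hclosed
    rw [← hD, ← hN, ← Set.image_sdiff e.injective] at hA hclosed ⊢
    obtain ⟨_, ha⟩ := hne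
    obtain ⟨a, ha', rfl⟩ := hA ha
    have := h2 (e ⁻¹' A) (fun x hx => by
        obtain ⟨y, hy, hyx⟩ := hA hx
        rwa [← e.injective hyx])
      ⟨a, ha⟩ (fun x hx z hz hxz => hclosed _ hx _ ⟨z, hz, rfl⟩ fun h => hxz ((he x z).mpr h))
    rintro _ ⟨z, hz, rfl⟩
    exact this hz
  · rw [hcard, ← hD, Nat.card_image_of_injective e.injective]
    exact h3
  · rw [hcard]
    refine h4.trans (le_of_eq ?_)
    rw [← Nat.card_image_of_injective e.injective]
    congr 2
    ext z
    constructor
    · rintro ⟨y, hy, rfl⟩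
      show nbhd (e y) = nbhd (e g)
      rw [← image_nbhd e he y, ← hN, show nbhd y = nbhd g from hy]
    · intro hz
      refine ⟨e.symm z, ?_, e.apply_symm_apply z⟩
      refine e.injective.image_injective ?_
      rw [image_nbhd e he, hN, e.apply_symm_apply]
      exact hz
  · intro l hl
    obtain ⟨v, hv, hv', hvc⟩ := h5 l hl
    refine ⟨e v, hN ▸ ⟨v, hv, rfl⟩, fun h => hv' ?_, ?_⟩
    · rw [← hD] at h
      exact e.injective.mem_set_image.mp h
    · rw [← hN, ← image_twins e he, Nat.card_image_of_injective e.injective, hvc]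

end Iso

variable [Finite G]

/-- Inside a cyclic subgroup being a power is divisibility of orders. -/
theorem mem_zpowers_of_dvd {g x y : G} (hx : x ∈ zpowers g) (hy : y ∈ zpowers g)
    (h : orderOf x ∣ orderOf y) : x ∈ zpowers y := by
  set m := orderOf g
  have hd : orderOf y ∣ m := orderOf_dvd_of_mem_zpowers hy
  have key : ∀ z ∈ zpowers g, orderOf z ∣ orderOf y → z ∈ zpowers (g ^ (m / orderOf y)) := by
    intro z hz hzd
    obtain ⟨i, rfl⟩ := (mem_powers_iff_mem_zpowers (x := g) (y := z)).mpr hz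
    have h1 : g ^ (i * orderOf y) = 1 := by
      rw [pow_mul]; exact orderOf_dvd_iff_pow_eq_one.mp hzd
    have h2 : m ∣ i * orderOf y := orderOf_dvd_of_pow_eq_one h1
    obtain ⟨c, hc⟩ : m / orderOf y ∣ i := by
      refine Nat.dvd_of_mul_dvd_mul_right (orderOf_pos y) ?_
      rwa [Nat.div_mul_cancel hd]
    show g ^ i ∈ _
    rw [hc, pow_mul]
    exact Subgroup.pow_mem _ (mem_zpowers _) c
  have ho : orderOf (g ^ (m / orderOf y)) = orderOf y := orderOf_pow_orderOf_div (orderOf_pos g).ne' hd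
  have heq : zpowers y = zpowers (g ^ (m / orderOf y)) :=
    Subgroup.eq_of_le_of_card_ge (zpowers_le.mpr (key y hy dvd_rfl))
      (by rw [Nat.card_zpowers, Nat.card_zpowers, ho])
  rw [heq]
  exact key x hx h

theorem adj_iff_of_mem {g x y : G} (hx : x ∈ zpowers g) (hy : y ∈ zpowers g) :
    Adj x y ↔ orderOf x ∣ orderOf y ∨ orderOf y ∣ orderOf x :=
  ⟨Or.imp orderOf_dvd_of_mem_zpowers orderOf_dvd_of_mem_zpowers,
    Or.imp (mem_zpowers_of_dvd hx hy) (mem_zpowers_of_dvd hy hx)⟩

/-- The elements of a given order in a cyclic subgroup. -/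
theorem card_orderOf_eq {g : G} {d : ℕ} (hd : d ∣ orderOf g) :
    Nat.card {y : G | y ∈ zpowers g ∧ orderOf y = d} = Nat.totient d := by
  classical
  haveI := Fintype.ofFinite (zpowers g)
  rw [← IsCyclic.card_orderOf_eq_totient (α := zpowers g) (d := d)
    (by rwa [← Nat.card_eq_fintype_card, Nat.card_zpowers]), ← Fintype.card_subtype,
    ← Nat.card_eq_fintype_card]
  exact Nat.card_congr
    { toFun := fun y => ⟨⟨y.1, y.2.1⟩, by rw [Subgroup.orderOf_mk]; exact y.2.2⟩
      invFun := fun y => ⟨y.1.1, y.1.2, by rw [Subgroup.orderOf_coe]; exact y.2⟩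
      left_inv := fun _ => rfl
      right_inv := fun _ => rfl }

/-- A set of elements closed under change of generator, all of whose orders have totient divisible
by `k`, has cardinality divisible by `k`. -/
theorem dvd_card_of_closed {S : Set G} {k : ℕ}
    (hS : ∀ y ∈ S, ∀ z : G, zpowers z = zpowers y → z ∈ S)
    (hk : ∀ y ∈ S, k ∣ Nat.totient (orderOf y)) : k ∣ Nat.card S := by
  classical
  haveI := Fintype.ofFinite G
  rw [Nat.card_eq_card_toFinset]
  rw [Finset.card_eq_sum_card_fiberwise (f := fun y : G => zpowers y)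
    (t := S.toFinset.image fun y => zpowers y)
    fun y hy => Finset.mem_image_of_mem (f := fun y : G => zpowers y) hy]
  refine Finset.dvd_sum fun K hK => ?_
  obtain ⟨y, hy, rfl⟩ := Finset.mem_image.mp hK
  rw [Set.mem_toFinset] at hy
  refine (hk y hy).trans (dvd_of_eq ?_)
  rw [← card_orderOf_eq (g := y) dvd_rfl, Nat.card_eq_card_toFinset]
  congr 1
  ext z
  simp only [Set.mem_toFinset, Set.mem_setOf_eq, Finset.mem_filter]
  constructor
  · rintro ⟨hz, hzo⟩
    have heq : zpowers z = zpowers y := Subgroup.eq_of_le_of_card_ge (zpowers_le.mpr hz)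
      (by rw [Nat.card_zpowers, Nat.card_zpowers, hzo])
    exact ⟨hS y hy z heq, heq⟩
  · rintro ⟨-, heq⟩
    exact ⟨heq ▸ mem_zpowers z, by rw [← Nat.card_zpowers, heq, Nat.card_zpowers]⟩

/-- An element with order divisible by `p * q` yields a vertex with the graph property. -/
theorem exists_isPQVertex {p q : ℕ} (hp : p.Prime) (hq : q.Prime) (hpq : p ≠ q) {g₀ : G}
    (hg₀ : p * q ∣ orderOf g₀) : ∃ g : G, IsPQVertex p q g := by
  classical
  obtain ⟨g, hg, hmax⟩ := Set.Finite.exists_maximalFor (fun g : G => orderOf g)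
    {g : G | g₀ ∈ zpowers g} (Set.toFinite _) ⟨g₀, mem_zpowers g₀⟩
  refine ⟨g, ?_⟩
  have hgen : ∀ y ∈ zpowers g, orderOf y = orderOf g → nbhd y = (zpowers g : Set G) := by
    intro y hy hyo
    have heq : zpowers y = zpowers g := Subgroup.eq_of_le_of_card_ge (zpowers_le.mpr hy)
      (by rw [Nat.card_zpowers, Nat.card_zpowers, hyo])
    ext z
    constructor
    · rintro (h | h)
      · have hle : zpowers g ≤ zpowers z := heq ▸ zpowers_le.mpr h
        have h1 : orderOf g ∣ orderOf z := orderOf_dvd_of_mem_zpowers (hle (mem_zpowers g))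
        have h2 : orderOf z ≤ orderOf g :=
          hmax (hle hg) (Nat.le_of_dvd (orderOf_pos z) h1)
        have : zpowers g = zpowers z := Subgroup.eq_of_le_of_card_ge hle
          (by rw [Nat.card_zpowers, Nat.card_zpowers]; exact h2)
        exact this.symm ▸ mem_zpowers z
      · exact heq ▸ h
    · intro h
      exact Or.inr (heq.symm ▸ h)
  have hN : nbhd g = (zpowers g : Set G) := hgen g (mem_zpowers g) rfl
  set n := orderOf g with hn
  have hn0 : n ≠ 0 := (orderOf_pos g).ne'
  have hpqn : p * q ∣ n := hg₀.trans (orderOf_dvd_of_mem_zpowers hg)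
  have hex : ∀ d, d ∣ n → ∃ y ∈ zpowers g, orderOf y = d := fun d hd =>
    ⟨g ^ (n / d), Subgroup.pow_mem _ (mem_zpowers g) _, orderOf_pow_orderOf_div hn0 hd⟩
  have hproj : ∀ l, l.Prime → l ∣ n → l ∣ l ^ n.factorization l := fun l hl hd =>
    dvd_pow_self l (hl.factorization_pos_of_dvd hn0 hd).ne'
  have hother : ∀ l : ℕ, ∃ l', (l' = p ∨ l' = q) ∧ l' ≠ l := fun l => by
    by_cases h : l = p
    · exact ⟨q, Or.inr rfl, h ▸ Ne.symm hpq⟩
    · exact ⟨p, Or.inl rfl, Ne.symm h⟩
  have hprime : ∀ l, (l = p ∨ l = q) → l.Prime ∧ l ∣ n := by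
    rintro l (rfl | rfl)
    · exact ⟨hp, (dvd_mul_right _ _).trans hpqn⟩
    · exact ⟨hq, (dvd_mul_left _ _).trans hpqn⟩
  -- prime powers for distinct primes are incomparable
  have hincomp : ∀ l l' : ℕ, l.Prime → l'.Prime → l ≠ l' → l' ∣ n → ∀ j, 0 < j →
      ¬ (l ^ j ∣ l' ^ n.factorization l' ∨ l' ^ n.factorization l' ∣ l ^ j) := by
    intro l l' hl hl' hne hd j hj h
    rcases h with h | h
    · exact hne ((Nat.prime_dvd_prime_iff_eq hl hl').mp
        (hl.dvd_of_dvd_pow ((dvd_pow_self l hj.ne').trans h)))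
    · exact hne ((Nat.prime_dvd_prime_iff_eq hl' hl).mp
        (hl'.dvd_of_dvd_pow ((hproj l' hl' hd).trans h))).symm
  -- elements of order `≠ 1, n` are incomparable with a maximal prime power element
  have hhub : ∀ y ∈ zpowers g, orderOf y ≠ 1 → orderOf y ≠ n →
      ∃ l, l.Prime ∧ l ∣ n ∧ ¬ (orderOf y ∣ l ^ n.factorization l ∨
        l ^ n.factorization l ∣ orderOf y) := by
    intro y hy h1 hne
    have hd : orderOf y ∣ n := orderOf_dvd_of_mem_zpowers hy
    by_cases hpp : IsPrimePow (orderOf y)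
    · obtain ⟨l, j, hl, hj, hlj⟩ := hpp
      obtain ⟨l', hl', hne'⟩ := hother l
      refine ⟨l', (hprime l' hl').1, (hprime l' hl').2, ?_⟩
      rw [← hlj]
      exact hincomp l l' hl.nat_prime (hprime l' hl').1 hne'.symm (hprime l' hl').2 j hj
    · by_contra hno
      push Not at hno
      refine hne (Nat.dvd_antisymm hd ?_)
      rw [Nat.dvd_iff_prime_pow_dvd_dvd]
      intro l k hl hk
      rcases Nat.eq_zero_or_pos k with rfl | hk0
      · simp
      have hln : l ∣ n := (dvd_pow_self l hk0.ne').trans hk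
      rcases hno l hl hln with h | h
      · exfalso
        obtain ⟨j, -, hj⟩ := (Nat.dvd_prime_pow hl).mp h
        refine hpp (hj ▸ ⟨l, j, hl.prime, Nat.pos_of_ne_zero fun h0 => h1 ?_, rfl⟩)
        rw [hj, h0, pow_zero]
      · exact (pow_dvd_pow l ((hl.pow_dvd_iff_le_factorization hn0).mp hk)).trans h
  have hdom : ∀ y ∈ zpowers g, y ∈ dominators (nbhd g) ↔ orderOf y = 1 ∨ orderOf y = n := by
    intro y hy
    constructor
    · intro hyd
      by_contra hno
      obtain ⟨h1, h2⟩ := not_or.mp hno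
      obtain ⟨l, hl, hln, hinc⟩ := hhub y hy h1 h2
      obtain ⟨z, hz, hzo⟩ := hex _ (Nat.ordProj_dvd n l)
      have := (adj_iff_of_mem hy hz).mp (hyd.2 z (hN ▸ hz))
      rw [hzo] at this
      exact hinc this
    · intro h
      refine ⟨hN ▸ hy, fun z hz => ?_⟩
      rw [hN] at hz
      refine (adj_iff_of_mem hy hz).mpr ?_
      rcases h with h | h
      · exact Or.inl (h ▸ one_dvd _)
      · exact Or.inr (h ▸ orderOf_dvd_of_mem_zpowers hz)
  have hcard : Nat.card (nbhd g) = n := by
    rw [hN]; exact Nat.card_zpowers g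
  refine ⟨hcard ▸ hpqn, ?_, ?_, ?_, ?_⟩
  · intro A hA hne hclosed z hz
    have hnd : ∀ y ∈ nbhd g \ dominators (nbhd g),
        y ∈ zpowers g ∧ orderOf y ≠ 1 ∧ orderOf y ≠ n := by
      intro y hy
      have hy' : y ∈ zpowers g := by have := hy.1; rwa [hN] at this
      exact ⟨hy', not_or.mp fun h => hy.2 ((hdom y hy').mpr h)⟩
    have hmk : ∀ a ∈ A, ∀ y ∈ zpowers g, orderOf y ≠ 1 → orderOf y ≠ n →
        ¬ (orderOf a ∣ orderOf y ∨ orderOf y ∣ orderOf a) → y ∈ A := by
      intro a ha y hy h1 h2 hinc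
      refine hclosed a ha y ⟨hN ▸ hy, fun h => ?_⟩ fun h => hinc ((adj_iff_of_mem (hnd a (hA ha)).1 hy).mp h)
      rcases (hdom y hy).mp h with h | h
      · exact h1 h
      · exact h2 h
    have hhubne : ∀ l, l.Prime → l ∣ n → l ^ n.factorization l ≠ 1 ∧ l ^ n.factorization l ≠ n := by
      intro l hl hd
      refine ⟨fun h => hl.not_dvd_one (h ▸ hproj l hl hd), fun h => ?_⟩
      obtain ⟨l', hl', hne'⟩ := hother l
      exact hne' ((Nat.prime_dvd_prime_iff_eq (hprime l' hl').1 hl).mp
        ((hprime l' hl').1.dvd_of_dvd_pow (h ▸ (hprime l' hl').2)))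
    obtain ⟨a, ha⟩ := hne
    obtain ⟨ha', ha1, ha2⟩ := hnd a (hA ha)
    obtain ⟨l, hl, hln, hinc⟩ := hhub a ha' ha1 ha2
    have hall : ∀ l₁, l₁.Prime → l₁ ∣ n → ∀ y ∈ zpowers g,
        orderOf y = l₁ ^ n.factorization l₁ → y ∈ A := by
      have first : ∀ y ∈ zpowers g, orderOf y = l ^ n.factorization l → y ∈ A := by
        intro y hy hyo
        exact hmk a ha y hy (hyo ▸ (hhubne l hl hln).1) (hyo ▸ (hhubne l hl hln).2) (hyo ▸ hinc)
      have second : ∀ l₁, l₁.Prime → l₁ ∣ n → l₁ ≠ l → ∀ y ∈ zpowers g,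
          orderOf y = l₁ ^ n.factorization l₁ → y ∈ A := by
        intro l₁ hl₁ hd₁ hne₁ y hy hyo
        obtain ⟨b, hb, hbo⟩ := hex _ (Nat.ordProj_dvd n l)
        refine hmk b (first b hb hbo) y hy (hyo ▸ (hhubne l₁ hl₁ hd₁).1)
          (hyo ▸ (hhubne l₁ hl₁ hd₁).2) ?_
        rw [hbo, hyo]
        exact hincomp l l₁ hl hl₁ hne₁.symm hd₁ _ (hl.factorization_pos_of_dvd hn0 hln)
      intro l₁ hl₁ hd₁ y hy hyo
      by_cases h : l₁ = l
      · exact first y hy (h ▸ hyo)
      · exact second l₁ hl₁ hd₁ h y hy hyo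
    obtain ⟨hz', hz1, hz2⟩ := hnd z hz
    obtain ⟨l₂, hl₂, hd₂, hinc₂⟩ := hhub z hz' hz1 hz2
    obtain ⟨b, hb, hbo⟩ := hex _ (Nat.ordProj_dvd n l₂)
    exact hmk b (hall l₂ hl₂ hd₂ b hb hbo) z hz' hz1 hz2
      (fun h => hinc₂ (by rw [hbo] at h; exact h.symm))
  · rw [hcard]
    have hsub : dominators (nbhd g) ⊆ {y : G | y ∈ zpowers g ∧ orderOf y = n} ∪ {1} := by
      intro y hy
      have hy' : y ∈ zpowers g := by have := hy.1; rwa [hN] at this
      rcases (hdom y hy').mp hy with h | h
      · exact Or.inr (orderOf_eq_one_iff.mp h)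
      · exact Or.inl ⟨hy', h⟩
    calc Nat.card (dominators (nbhd g)) = (dominators (nbhd g)).ncard := Nat.card_coe_set_eq _
      _ ≤ ({y : G | y ∈ zpowers g ∧ orderOf y = n} ∪ {1}).ncard :=
        Set.ncard_le_ncard hsub (Set.toFinite _)
      _ ≤ {y : G | y ∈ zpowers g ∧ orderOf y = n}.ncard + ({1} : Set G).ncard := Set.ncard_union_le _ _
      _ = Nat.totient n + 1 := by
        rw [Set.ncard_singleton, ← Nat.card_coe_set_eq, card_orderOf_eq (g := g) dvd_rfl]
  · rw [hcard, ← card_orderOf_eq (g := g) (d := n) dvd_rfl, Nat.card_coe_set_eq, Nat.card_coe_set_eq]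
    exact Set.ncard_le_ncard (fun y hy => (hgen y hy.1 hy.2).trans hN.symm) (Set.toFinite _)
  · intro l hl
    obtain ⟨hlp, hln⟩ := hprime l hl
    obtain ⟨l', hl', hne⟩ := hother l
    obtain ⟨hlp', hln'⟩ := hprime l' hl'
    obtain ⟨v, hv, hvo⟩ := hex l hln
    obtain ⟨v', hv', hvo'⟩ := hex l' hln'
    have hnadj : ¬ (l ∣ l' ∨ l' ∣ l) := by
      rintro (h | h)
      · exact hne ((Nat.prime_dvd_prime_iff_eq hlp hlp').mp h).symm
      · exact hne ((Nat.prime_dvd_prime_iff_eq hlp' hlp).mp h)
    refine ⟨v, hN ▸ hv, fun h => hnadj ?_, ?_⟩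
    · have := (adj_iff_of_mem hv hv').mp (h.2 v' (hN ▸ hv'))
      rwa [hvo, hvo'] at this
    · rw [← Nat.totient_prime hlp, ← card_orderOf_eq (g := g) hln]
      congr 2
      ext y
      constructor
      · rintro ⟨hyN, hy⟩
        have hy' : y ∈ zpowers g := by rwa [hN] at hyN
        refine ⟨hy', ?_⟩
        have hd : orderOf y ∣ n := orderOf_dvd_of_mem_zpowers hy'
        have h1 : orderOf y ∣ l ∨ l ∣ orderOf y := by
          have := (adj_iff_of_mem hy' hv).mp ((hy v (hN ▸ hv)).mpr (adj_self v))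
          rwa [hvo] at this
        rcases h1 with h1 | h1
        · rcases (Nat.dvd_prime hlp).mp h1 with h2 | h2
          · exfalso
            refine hnadj ?_
            have := (adj_iff_of_mem hv hv').mp ((hy v' (hN ▸ hv')).mp ((adj_iff_of_mem hy' hv').mpr
              (Or.inl (h2 ▸ one_dvd _))))
            rwa [hvo, hvo'] at this
          · exact h2
        · by_contra hne'
          -- another prime of `orderOf y`, or `l * l'`, separates `y` from `v`
          by_cases hpp : ∃ r, r.Prime ∧ r ∣ orderOf y ∧ r ≠ l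
          · obtain ⟨r, hr, hrd, hrl⟩ := hpp
            obtain ⟨z, hz, hzo⟩ := hex r (hrd.trans hd)
            have := (adj_iff_of_mem hv hz).mp ((hy z (hN ▸ hz)).mp
              ((adj_iff_of_mem hy' hz).mpr (Or.inr (hzo ▸ hrd))))
            rw [hvo, hzo] at this
            rcases this with h | h
            · exact hrl ((Nat.prime_dvd_prime_iff_eq hlp hr).mp h).symm
            · exact hrl ((Nat.prime_dvd_prime_iff_eq hr hlp).mp h)
          · push Not at hpp
            obtain ⟨z, hz, hzo⟩ := hex (l * l') (((Nat.coprime_primes hlp hlp').mpr hne.symm).mul_dvd_of_dvd_of_dvd hln hln')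
            have := (adj_iff_of_mem hy' hz).mp ((hy z (hN ▸ hz)).mpr
              ((adj_iff_of_mem hv hz).mpr (Or.inl (by rw [hvo, hzo]; exact dvd_mul_right _ _))))
            rw [hzo] at this
            rcases this with h | h
            · have hcop : (orderOf y).Coprime l' := (hlp'.coprime_iff_not_dvd.mpr
                fun h' => hne (hpp l' hlp' h')).symm
              exact hne' (Nat.dvd_antisymm (hcop.dvd_of_dvd_mul_right h) h1)
            · exact hne (hpp l' hlp' ((dvd_mul_left l' l).trans h))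
      · rintro ⟨hy', hyo⟩
        refine ⟨hN ▸ hy', fun z hz => ?_⟩
        rw [hN] at hz
        rw [adj_iff_of_mem hy' hz, adj_iff_of_mem hv hz, hyo, hvo]

/-- The graph property forces an element of order `p * q`. -/
theorem exists_orderOf_eq {p q : ℕ} (hp : p.Prime) (hq : q.Prime) (hpq : p ≠ q) {g : G}
    (hg : IsPQVertex p q g) : ∃ x : G, orderOf x = p * q := by
  classical
  haveI := Fact.mk hp
  haveI := Fact.mk hq
  obtain ⟨h1, h2, h3, h4, h5⟩ := hg
  set N := nbhd g with hN
  set n := Nat.card N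
  have hcop : Nat.Coprime p q := (Nat.coprime_primes hp hq).mpr hpq
  have hgood : ∀ x : G, p * q ∣ orderOf x → ∃ z : G, orderOf z = p * q := fun x hx =>
    ⟨x ^ (orderOf x / (p * q)), orderOf_pow_orderOf_div (orderOf_pos x).ne' hx⟩
  haveI : Nonempty N := ⟨⟨g, adj_self g⟩⟩
  have hn0 : 0 < n := Nat.card_pos
  have htot : (p - 1) * (q - 1) ∣ Nat.totient n := by
    rw [← Nat.totient_prime hp, ← Nat.totient_prime hq, ← Nat.totient_mul hcop]
    exact Nat.totient_dvd_of_dvd h1
  have htot2 : 2 ≤ Nat.totient n := by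
    refine le_trans ?_ (Nat.le_of_dvd (Nat.totient_pos.mpr hn0) htot)
    rcases hp.eq_two_or_odd with h | h <;> rcases hq.eq_two_or_odd with h' | h'
    · exact absurd (h.trans h'.symm) hpq
    all_goals
      have := hp.two_le
      have := hq.two_le
    · subst h; omega
    · subst h'; omega
    · have a : 2 ≤ p - 1 := by omega
      have b : 1 ≤ q - 1 := by omega
      exact le_trans (by norm_num) (Nat.mul_le_mul a b)
  set T := {y : G | nbhd y = N} with hT
  have hgT : g ∈ T := rfl
  -- a nontrivial vertex adjacent to everything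
  by_cases huniv : N = Set.univ
  · obtain ⟨x, hxT, hx1⟩ : ∃ x ∈ T, x ≠ (1 : G) := by
      by_contra hno
      push Not at hno
      have : Nat.card T ≤ 1 := by
        rw [Nat.card_coe_set_eq]
        exact (Set.ncard_le_ncard (t := {(1 : G)}) hno (Set.toFinite _)).trans
          (Set.ncard_singleton _).le
      omega
    have hadj : ∀ z : G, Adj x z := fun z => by
      have : z ∈ nbhd x := by rw [show nbhd x = N from hxT, huniv]; trivial
      exact this
    have hcard : n = Nat.card G := by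
      show Nat.card N = _
      rw [huniv]; exact Nat.card_congr (Equiv.Set.univ G)
    have key : ∀ l : ℕ, (l = p ∨ l = q) → orderOf x = l ∨ l ∣ orderOf x := by
      intro l hl
      have hlp : l.Prime := by rcases hl with rfl | rfl <;> assumption
      haveI := Fact.mk hlp
      have hd : l ∣ Nat.card G := by
        rw [← hcard]
        rcases hl with rfl | rfl
        · exact (dvd_mul_right _ _).trans h1
        · exact (dvd_mul_left _ _).trans h1
      obtain ⟨a, ha⟩ := exists_prime_orderOf_dvd_card' l hd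
      rcases hadj a with h | h
      · rcases (Nat.dvd_prime hlp).mp (ha ▸ orderOf_dvd_of_mem_zpowers h) with h' | h'
        · exact absurd (orderOf_eq_one_iff.mp h') hx1
        · exact Or.inl h'
      · exact Or.inr (ha ▸ orderOf_dvd_of_mem_zpowers h)
    refine hgood x (hcop.mul_dvd_of_dvd_of_dvd ?_ ?_)
    · exact (key p (Or.inl rfl)).elim (fun h => h ▸ dvd_rfl) id
    · exact (key q (Or.inr rfl)).elim (fun h => h ▸ dvd_rfl) id
  have h1N : (1 : G) ∈ dominators N :=
    ⟨Or.inr (one_mem _), fun z _ => adj_one z⟩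
  have h1T : (1 : G) ∉ T := fun h => huniv (by
    rw [← show nbhd (1 : G) = N from h]
    exact Set.eq_univ_of_forall adj_one)
  have hTD : T ⊆ dominators N := fun y hy => by
    refine ⟨?_, fun z hz => ?_⟩
    · rw [← show nbhd y = N from hy]; exact adj_self y
    · have : z ∈ nbhd y := by rwa [show nbhd y = N from hy]
      exact this
  have hDle : Nat.card (dominators N) ≤ Nat.card T + 1 := le_trans h3 (by omega)
  have hins : insert (1 : G) T = dominators N := by
    refine Set.eq_of_subset_of_ncard_le (Set.insert_subset h1N hTD) ?_ (Set.toFinite _)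
    rw [Set.ncard_insert_of_notMem h1T (Set.toFinite _), ← Nat.card_coe_set_eq, ← Nat.card_coe_set_eq]
    exact hDle
  have hTcard : Nat.card T = Nat.totient n := by
    refine le_antisymm ?_ h4
    have := h3
    rw [← hins, Nat.card_coe_set_eq, Set.ncard_insert_of_notMem h1T (Set.toFinite _),
      ← Nat.card_coe_set_eq] at this
    omega
  have hDT : ∀ y ∈ dominators N, y ≠ 1 → nbhd y = N := by
    intro y hy hy1
    rw [← hins] at hy
    exact hy.resolve_left hy1
  have hg1 : g ≠ 1 := fun h => h1T (h ▸ hgT)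
  by_cases hzp : N = (zpowers g : Set G)
  · refine hgood g ?_
    rw [← Nat.card_zpowers]
    have : n = Nat.card (zpowers g : Set G) := by show Nat.card N = _; rw [hzp]
    exact this ▸ h1
  obtain ⟨u, huN, hug⟩ : ∃ u ∈ N, u ∉ zpowers g := by
    by_contra hno
    push Not at hno
    exact hzp (Set.Subset.antisymm hno fun z hz => Or.inr hz)
  exfalso
  by_cases hpp : IsPrimePow (orderOf g)
  · -- `N` is the neighbourhood of an element of prime order
    obtain ⟨r, s, hr, hs, hrs⟩ := hpp
    have hr' : r.Prime := hr.nat_prime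
    haveI := Fact.mk hr'
    obtain ⟨x, hxg, hxo⟩ : ∃ x ∈ zpowers g, orderOf x = r :=
      ⟨g ^ (orderOf g / r), Subgroup.pow_mem _ (mem_zpowers g) _,
        orderOf_pow_orderOf_div (orderOf_pos g).ne' (hrs ▸ dvd_pow_self r hs.ne')⟩
    have hx1 : x ≠ 1 := fun h => hr'.ne_one (by rw [← hxo, h, orderOf_one])
    have hxN : nbhd x = N := by
      refine hDT x ⟨Or.inr hxg, fun z hz => ?_⟩ hx1
      rcases hz with h | h
      · exact Or.inl (zpowers_le.mpr h hxg)
      · obtain ⟨i, -, hi⟩ := (Nat.dvd_prime_pow hr').mp (hrs ▸ orderOf_dvd_of_mem_zpowers h)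
        refine (adj_iff_of_mem hxg h).mpr ?_
        rcases Nat.eq_zero_or_pos i with rfl | hi0
        · exact Or.inr (by rw [hi, pow_zero]; exact one_dvd _)
        · exact Or.inl (by rw [hxo, hi]; exact dvd_pow_self r hi0.ne')
    have hxmem : ∀ z ∈ N, z ≠ 1 → x ∈ zpowers z := by
      intro z hz hz1
      rw [← hxN] at hz
      rcases hz with h | h
      · exact h
      · refine mem_zpowers_of_dvd (mem_zpowers x) h ?_
        rcases (Nat.dvd_prime hr').mp (hxo ▸ orderOf_dvd_of_mem_zpowers h) with h' | h'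
        · exact absurd (orderOf_eq_one_iff.mp h') hz1
        · rw [hxo, h']
    obtain ⟨w, hwT, hwmax⟩ := Set.Finite.exists_maximalFor (fun y : G => orderOf y) T (Set.toFinite _)
      ⟨g, hgT⟩
    have hwN : (zpowers w : Set G) ⊆ N := fun z hz => by
      rw [← show nbhd w = N from hwT]; exact Or.inr hz
    have hw1 : w ≠ 1 := fun h => h1T (h ▸ hwT)
    obtain ⟨t, ht0, ht⟩ : ∃ t, 0 < t ∧ orderOf w = r ^ t := by
      have hu : ∀ {l : ℕ}, l.Prime → l ∣ orderOf w → l = r := by
        intro l hl hld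
        have hyo : orderOf (w ^ (orderOf w / l)) = l :=
          orderOf_pow_orderOf_div (orderOf_pos w).ne' hld
        have hy1 : w ^ (orderOf w / l) ≠ 1 := fun h => hl.ne_one (by rw [← hyo, h, orderOf_one])
        have h := orderOf_dvd_of_mem_zpowers
          (hxmem _ (hwN (Subgroup.pow_mem _ (mem_zpowers w) _)) hy1)
        rw [hxo, hyo] at h
        exact ((Nat.prime_dvd_prime_iff_eq hr' hl).mp h).symm
      refine ⟨_, ?_, Nat.eq_prime_pow_of_unique_prime_dvd (orderOf_pos w).ne' hu⟩
      by_contra h0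
      have h := Nat.eq_prime_pow_of_unique_prime_dvd (orderOf_pos w).ne' hu
      rw [Nat.le_zero.mp (not_lt.mp h0), pow_zero, orderOf_eq_one_iff] at h
      exact hw1 h
    have hTw : T = (zpowers w : Set G) \ {1} := by
      ext y
      constructor
      · intro hy
        refine ⟨?_, fun h => h1T (h ▸ hy)⟩
        have h' : y ∈ nbhd w := by rw [show nbhd w = N from hwT]; exact (hTD hy).1
        rcases h' with h | h
        · have hd : orderOf w ∣ orderOf y := orderOf_dvd_of_mem_zpowers h
          have : orderOf y ≤ orderOf w := hwmax hy (Nat.le_of_dvd (orderOf_pos y) hd)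
          have heq : zpowers w = zpowers y := Subgroup.eq_of_le_of_card_ge (zpowers_le.mpr h)
            (by rw [Nat.card_zpowers, Nat.card_zpowers]; exact this)
          exact heq.symm ▸ mem_zpowers y
        · exact h
      · rintro ⟨hy, hy1⟩
        refine hDT y ⟨hwN hy, fun z hz => ?_⟩ hy1
        have h' : z ∈ nbhd w := by rwa [show nbhd w = N from hwT]
        rcases h' with h | h
        · exact Or.inl (zpowers_le.mpr h hy)
        · obtain ⟨i, -, hi⟩ := (Nat.dvd_prime_pow hr').mp (ht ▸ orderOf_dvd_of_mem_zpowers hy)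
          obtain ⟨j, -, hj⟩ := (Nat.dvd_prime_pow hr').mp (ht ▸ orderOf_dvd_of_mem_zpowers h)
          refine (adj_iff_of_mem hy h).mpr ?_
          rw [hi, hj]
          exact (le_total i j).imp (pow_dvd_pow r) (pow_dvd_pow r)
    have hphi : Nat.totient n + 1 = r ^ t := by
      rw [← hTcard, hTw, Nat.card_coe_set_eq,
        Set.ncard_sdiff_singleton_add_one (one_mem (zpowers w)) (Set.toFinite _),
        ← Nat.card_coe_set_eq, ← ht]
      exact Nat.card_zpowers w
    have hclass : ∀ l : ℕ, (l = p ∨ l = q) → Nat.totient (r ^ t) ∣ l - 1 := by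
      intro l hl
      obtain ⟨v, hvN, hvD, hvc⟩ := h5 l hl
      have hnd : ∀ y ∈ twins N v, y ∉ dominators N := fun y hy hyd =>
        hvD ⟨hvN, fun z hz => (hy.2 z hz).mp (hyd.2 z hz)⟩
      rw [← hvc]
      refine dvd_card_of_closed ?_ ?_
      · intro y hy z hzy
        have hadj : ∀ a : G, Adj z a ↔ Adj y a := fun a => by
          unfold Adj
          rw [← zpowers_le, ← zpowers_le (g := y), hzy]
        refine ⟨?_, fun a ha => (hadj a).trans (hy.2 a ha)⟩
        show Adj g z
        exact adj_comm.mp ((hadj g).mpr (adj_comm.mp (hy.1 : Adj g y)))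
      · intro y hy
        refine Nat.totient_dvd_of_dvd ?_
        rw [← ht]
        have h' : y ∈ nbhd w := by rw [show nbhd w = N from hwT]; exact hy.1
        rcases h' with h | h
        · exact orderOf_dvd_of_mem_zpowers h
        · exfalso
          refine hnd y hy ?_
          by_cases hy1 : y = 1
          · exact hy1 ▸ h1N
          · refine hTD ?_
            rw [hTw]
            exact ⟨h, hy1⟩
    have hdvd : Nat.totient (r ^ t) * Nat.totient (r ^ t) ∣ Nat.totient n :=
      (mul_dvd_mul (hclass p (Or.inl rfl)) (hclass q (Or.inr rfl))).trans htot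
    rw [Nat.totient_prime_pow hr' ht0] at hdvd
    have ht1 : t = 1 := by
      by_contra hne
      have h' : r ∣ Nat.totient n := by
        refine dvd_trans ?_ hdvd
        refine dvd_mul_of_dvd_left (dvd_mul_of_dvd_left (dvd_pow_self r ?_) _) _
        omega
      have h'' : r ∣ Nat.totient n + 1 := hphi ▸ dvd_pow_self r ht0.ne'
      exact hr'.not_dvd_one ((Nat.dvd_add_right h').mp h'')
    subst ht1
    rw [pow_one] at hphi
    rw [show 1 - 1 = 0 from rfl, pow_zero, one_mul] at hdvd
    have e1 : r - 1 = Nat.totient n := by omega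
    rw [e1] at hdvd
    have h'' := Nat.le_of_dvd (by omega) hdvd
    nlinarith
  · -- incomparable elements below `g`
    have hn1 : orderOf g ≠ 1 := fun h => hg1 (orderOf_eq_one_iff.mp h)
    obtain ⟨a, hl, hla⟩ := Nat.exists_prime_and_dvd hn1
    obtain ⟨b, hb, hbd, hba⟩ : ∃ b, b.Prime ∧ b ∣ orderOf g ∧ b ≠ a := by
      by_contra hno
      push Not at hno
      refine hpp ⟨a, (orderOf g).primeFactorsList.length, hl.prime, ?_, ?_⟩
      · refine Nat.pos_of_ne_zero fun h0 => ?_
        have h' := Nat.eq_prime_pow_of_unique_prime_dvd (orderOf_pos g).ne'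
          (fun {d} hd hdd => hno d hd hdd)
        rw [h0, pow_zero] at h'
        exact hn1 h'
      · exact (Nat.eq_prime_pow_of_unique_prime_dvd (orderOf_pos g).ne'
          (fun {d} hd hdd => hno d hd hdd)).symm
    obtain ⟨x, hx, hxo⟩ : ∃ x ∈ zpowers g, orderOf x = a :=
      ⟨g ^ (orderOf g / a), Subgroup.pow_mem _ (mem_zpowers g) _,
        orderOf_pow_orderOf_div (orderOf_pos g).ne' hla⟩
    obtain ⟨y, hy, hyo⟩ : ∃ y ∈ zpowers g, orderOf y = b :=
      ⟨g ^ (orderOf g / b), Subgroup.pow_mem _ (mem_zpowers g) _,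
        orderOf_pow_orderOf_div (orderOf_pos g).ne' hbd⟩
    have hxy : ¬ Adj x y := fun h => by
      rw [adj_iff_of_mem hx hy, hxo, hyo] at h
      rcases h with h | h
      · exact hba ((Nat.prime_dvd_prime_iff_eq hl hb).mp h).symm
      · exact hba ((Nat.prime_dvd_prime_iff_eq hb hl).mp h)
    have hxnd : x ∈ N \ dominators N := ⟨Or.inr hx, fun h => hxy (h.2 y (Or.inr hy))⟩
    have hsub := h2 ((N \ dominators N) ∩ (zpowers g : Set G)) Set.inter_subset_left
      ⟨x, hxnd, hx⟩ (by
        rintro c ⟨hc, hcg⟩ z hz hcz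
        refine ⟨hz, ?_⟩
        rcases (hz.1 : Adj g z) with h | h
        · exact absurd (Or.inl (zpowers_le.mpr h hcg)) hcz
        · exact h)
    have hud : u ∈ dominators N := by
      by_contra h
      exact hug (hsub ⟨huN, h⟩).2
    have hu1 : u ≠ 1 := fun h => hug (h ▸ one_mem _)
    have hugu : g ∈ zpowers u := (huN : Adj g u).resolve_right hug
    have hue := hDT u hud hu1
    have hdu : orderOf g ∣ orderOf u := orderOf_dvd_of_mem_zpowers hugu
    obtain ⟨l, k, hlp, hk, hnk⟩ : ∃ l k : ℕ, l.Prime ∧ l ^ k ∣ orderOf u ∧ ¬ l ^ k ∣ orderOf g := by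
      by_contra hno
      push Not at hno
      have heq : orderOf g = orderOf u := Nat.dvd_antisymm hdu
        ((Nat.dvd_iff_prime_pow_dvd_dvd _ _).mpr fun l k hlp hk => hno l k hlp hk)
      have : zpowers g = zpowers u := Subgroup.eq_of_le_of_card_ge (zpowers_le.mpr hugu)
        (by rw [Nat.card_zpowers, Nat.card_zpowers, heq])
      exact hug (this.symm ▸ mem_zpowers u)
    have hzo : orderOf (u ^ (orderOf u / l ^ k)) = l ^ k :=
      orderOf_pow_orderOf_div (orderOf_pos u).ne' hk
    have hzN : u ^ (orderOf u / l ^ k) ∈ N :=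
      hue ▸ (Or.inr (Subgroup.pow_mem _ (mem_zpowers u) _) : Adj u _)
    rcases (hzN : Adj g _) with h | h
    · have h' := orderOf_dvd_of_mem_zpowers h
      rw [hzo] at h'
      obtain ⟨j, -, hj⟩ := (Nat.dvd_prime_pow hlp).mp h'
      exact hpp (hj ▸ ⟨l, j, hlp.prime, Nat.pos_of_ne_zero fun h0 => hn1 (by rw [hj, h0, pow_zero]), rfl⟩)
    · exact hnk (hzo ▸ orderOf_dvd_of_mem_zpowers h)

/-- Groups with isomorphic power graphs have the same element orders `p * q`. -/
theorem exists_orderOf_iff {H : Type*} [Group H] [Finite H] (e : G ≃ H)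
    (he : ∀ x y : G, Adj x y ↔ Adj (e x) (e y)) {p q : ℕ} (hp : p.Prime) (hq : q.Prime)
    (hpq : p ≠ q) : (∃ g : G, orderOf g = p * q) ↔ (∃ h : H, orderOf h = p * q) := by
  constructor
  · rintro ⟨g, hg⟩
    obtain ⟨g', hg'⟩ := exists_isPQVertex hp hq hpq hg.symm.dvd
    exact exists_orderOf_eq hp hq hpq (isPQVertex_map e he hg')
  · rintro ⟨h, hh⟩
    obtain ⟨h', hh'⟩ := exists_isPQVertex hp hq hpq hh.symm.dvd
    exact exists_orderOf_eq hp hq hpq
      (isPQVertex_map e.symm (fun x y => by rw [he, e.apply_symm_apply, e.apply_symm_apply]) hh')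

end Cfsg.Agent.Lib.PowerGraph
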